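import Cfsg.Agent.Lib.HeldStab.Coded

/-!
# The checked tables
-/

set_option autoImplicit false

namespace Cfsg.Agent.HeldStab

/-- The tables of forms and transvections are correct. -/
def formOK : Bool :=
  allBelow 136 (fun k => decide (vecs.getD k 0 < 256) &&
    allBelow 256 (fun x => formN k x == qN (vecs.getD k 0) x)) &&
  allBelow 5 (fun i => decide (tvecs.getD i 0 < 256) &&
    allBelow 256 (fun x => tvTabN i x == tvN (tvecs.getD i 0) x)) &&
  formTab.length == 136 && decide formTab.Nodup &&
  formTab.all (fun F => decide (F < 2 ^ 512))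

/-- The transvections permute the forms as tabulated. -/
def moveOK : Bool :=
  allBelow 5 fun i => allBelow 136 fun k =>
    decide (tImg i k < 136) &&
      allBelow 256 fun x => formN (tImg i k) (tvTabN i x) == formN k x

/-- Words, cosets and conjugates. -/
def wordOK : Bool :=
  allBelow 5 (fun i => (tWords.getD i []).all (fun j => decide (j < 7)) &&
    allBelow 136 (fun k => tImg i k == hWalk (tWords.getD i []) k)) &&
  allBelow 7 (fun j => (hCosWord.getD j []).all (fun i => decide (i < 5)) &&
    allBelow 136 (fun k => decide (hImg j k < 136) &&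
      tWalk (hCosWord.getD j []) k == (bif inner.getD j false then hImg j k else hImg j (hImg outer k)))) &&
  allBelow 5 (fun i => (conjWord.getD i []).all (fun l => decide (l < 5)) &&
    allBelow 136 (fun k => tWalk (conjWord.getD i []) k == hImg outer (tImg i (hImg outer k)))) &&
  allBelow 136 (fun k => hImg outer (hImg outer k) == k) &&
  decide (outer < 7) &&
  vecs.getD idxZero 0 == 0 && vecs.getD idxOne 0 == 1 && vecs.getD idxOmega 0 == 2 &&
  vecs.getD 4 0 == 4 && vecs.getD 16 0 == 16 && vecs.getD 40 0 == 64 &&
  !((formN (hImg outer idxOmega) witness ^^^ formN (hImg outer idxZero) witness) ==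
    G2Four.mulN (G2Four.mulN 2 2)
      (formN (hImg outer idxOne) witness ^^^ formN (hImg outer idxZero) witness))

/-- Every non-zero vector is reached from the first centre. -/
def orbitOK : Bool :=
  allBelow 255 (fun n => decide ((vecOrbit.getD n (0, 0, 0)).1 < 256) &&
    (bif n == 0 then (vecOrbit.getD n (0, 0, 0)).1 == tvecs.getD 0 0 else
      decide ((vecOrbit.getD n (0, 0, 0)).2.1 < n) && decide ((vecOrbit.getD n (0, 0, 0)).2.2 < 5) &&
      tvTabN (vecOrbit.getD n (0, 0, 0)).2.2 (vecOrbit.getD (vecOrbit.getD n (0, 0, 0)).2.1 (0, 0, 0)).1 ==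
        (vecOrbit.getD n (0, 0, 0)).1)) &&
  allBelow 256 (fun x => x == 0 || vecOrbit.any (fun e => e.1 == x))

theorem formOK_eq : formOK = true := by decide +kernel
theorem moveOK_eq : moveOK = true := by decide +kernel
theorem wordOK_eq : wordOK = true := by decide +kernel
theorem orbitOK_eq : orbitOK = true := by decide +kernel

end Cfsg.Agent.HeldStab
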