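import Cfsg.Agent.Lib.HeldStab.Data
import Cfsg.Agent.Lib.G2Four.Field

/-!
# Coded vectors and quadratic forms over the field with four elements

A vector of length four is coded in base four. `qN v` is the quadratic form
`x₀x₂ + x₁x₃ + (v · x)²`, whose polar form is the symplectic form `bN`.
-/

set_option autoImplicit false

namespace Cfsg.Agent.HeldStab

open Cfsg.Agent.G2Four (mulN)

/-- Coordinate `i` of a coded vector. -/
def coord (x i : ℕ) : ℕ := x / 4 ^ i % 4

/-- The dot product. -/
def dotN (v x : ℕ) : ℕ :=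
  mulN (coord v 0) (coord x 0) ^^^ mulN (coord v 1) (coord x 1) ^^^
    mulN (coord v 2) (coord x 2) ^^^ mulN (coord v 3) (coord x 3)

/-- The quadratic form with parameter `v`. -/
def qN (v x : ℕ) : ℕ :=
  mulN (coord x 0) (coord x 2) ^^^ mulN (coord x 1) (coord x 3) ^^^ mulN (dotN v x) (dotN v x)

/-- The symplectic form. -/
def bN (x y : ℕ) : ℕ :=
  mulN (coord x 0) (coord y 2) ^^^ mulN (coord x 1) (coord y 3) ^^^
    mulN (coord x 2) (coord y 0) ^^^ mulN (coord x 3) (coord y 1)

/-- The transvection with centre `p`. -/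
def tvN (p x : ℕ) : ℕ :=
  (coord x 0 ^^^ mulN (bN x p) (coord p 0)) + 4 * (coord x 1 ^^^ mulN (bN x p) (coord p 1)) +
    16 * (coord x 2 ^^^ mulN (bN x p) (coord p 2)) + 64 * (coord x 3 ^^^ mulN (bN x p) (coord p 3))

/-- Point `k` of the suborbit. -/
def ptN (k : ℕ) : ℕ := pts.getD k 0

/-- The tabulated form `k` at `x`. -/
def formN (k x : ℕ) : ℕ := formTab.getD k 0 >>> (2 * x) % 4

/-- The tabulated transvection `i` at `x`. -/
def tvTabN (i x : ℕ) : ℕ := tvTab.getD i 0 >>> (8 * x) % 256

/-- Image of `k` under the permutation of transvection `i`. -/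
def tImg (i k : ℕ) : ℕ := (tPerm.getD i []).getD k 0

/-- Image of `k` under the permutation of stabiliser generator `j`. -/
def hImg (j k : ℕ) : ℕ := (hPerm.getD j []).getD k 0

/-- The permutation of a word in the transvections, first letter first. -/
def tWalk (w : List ℕ) (k : ℕ) : ℕ := w.foldl (fun k i => tImg i k) k

/-- The permutation of a word in the stabiliser generators, first letter first. -/
def hWalk (w : List ℕ) (k : ℕ) : ℕ := w.foldl (fun k j => hImg j k) k

/-- All values below `n`. -/
def allBelow (n : ℕ) (f : ℕ → Bool) : Bool := (List.range n).all f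

theorem of_allBelow {n : ℕ} {f : ℕ → Bool} (h : allBelow n f = true) {i : ℕ} (hi : i < n) :
    f i = true := List.all_eq_true.1 h i (List.mem_range.2 hi)

end Cfsg.Agent.HeldStab
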