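import Cfsg.Agent.Lib.HeldStab.Coded
import Cfsg.Agent.Lib.Presented.HeIndex

/-!
# The suborbit in the coset table
-/

set_option autoImplicit false

namespace Cfsg.Agent.HeldStab

open Cfsg.Agent.Presented

/-- The generating words of the subgroup of index 2058. -/
def hWords : List (List ℕ) :=
  [[0], [2], [3], [4], [5], [1, 0, 1, 0], [4, 3, 2, 1, 4, 3, 2, 1, 4, 3, 2, 1, 4, 3, 2, 1, 4, 3, 2, 1, 4, 3, 2, 1, 4, 3, 2, 1]]

/-- The suborbit is permuted as tabulated by the generators of the subgroup. -/
noncomputable def pointOK : Bool :=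
  pts.length == 136 && decide pts.Nodup && pts.all (fun p => decide (p < 2058)) &&
  allBelow 7 (fun j => (hWords.getD j []).all (fun g => decide (g < 7)) &&
    allBelow 136 (fun k => Nat.beq (HeC2058.cert.path (hWords.getD j []) (ptN k)) (ptN (hImg j k))))

theorem pointOK_eq : pointOK = true := by decide +kernel

end Cfsg.Agent.HeldStab
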