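import Cfsg.Agent.Lib.HeldStab.Symp
import Cfsg.Agent.Lib.HeldStab.PointCheck
import Cfsg.Agent.Lib.Presented.HeOrder
import Cfsg.Agent.Lib.Forms.Symp
import Cfsg.Prelude.Def_Sporadic

/-!
# The Held group on 2058 points: the stabiliser contains Sp₄(4) with index two
-/

set_option autoImplicit false

namespace Cfsg.Agent.HeldStab

open scoped Matrix
open Cfsg.Spor Cfsg.Agent.Presented Cfsg.Agent.Presented.HeIndex

attribute [local irreducible] formN tvTabN tImg hImg ptN

/-- The numbering of the cosets. -/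
noncomputable def eC : Fin HeC2058.cert.N ≃ He ⧸ hSub := exists_table.choose

theorem eC_spec :
    (∀ i : Fin HeC2058.cert.N, (i : ℕ) = 0 → eC i = QuotientGroup.mk 1) ∧
      ∀ g (hgm : g < HeC2058.cert.m) (i : Fin HeC2058.cert.N),
        gen g • eC i = eC ⟨HeC2058.cert.actOf i g,
          CosetCert.actOf_lt HeC2058.cert_edgesOK HeC2058.cert_nodesOK i.2 hgm⟩ :=
  exists_table.choose_spec

theorem pointOK_spec :
    pts.length = 136 ∧ pts.Nodup ∧ (∀ p ∈ pts, p < 2058) ∧
      ∀ j < 7, (∀ g ∈ hWords.getD j [], g < 7) ∧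
        ∀ k < 136, HeC2058.cert.path (hWords.getD j []) (ptN k) = ptN (hImg j k) := by
  have h := pointOK_eq
  simp only [pointOK, Bool.and_eq_true, beq_iff_eq, decide_eq_true_eq, List.all_eq_true] at h
  obtain ⟨⟨⟨h1, h2⟩, h3⟩, h4⟩ := h
  refine ⟨h1, h2, h3, fun j hj => ?_⟩
  have := of_allBelow h4 hj
  simp only [Bool.and_eq_true, decide_eq_true_eq, List.all_eq_true] at this
  exact ⟨this.1, fun k hk => Nat.eq_of_beq_eq_true (of_allBelow this.2 hk)⟩

theorem cert_N : HeC2058.cert.N = 2058 := rfl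

theorem ptN_lt (k : Fin 136) : ptN k.val < HeC2058.cert.N := by
  obtain ⟨h1, -, h3, -⟩ := pointOK_spec
  have hk : k.val < pts.length := by omega
  rw [cert_N, ptN, List.getD_eq_getElem _ 0 hk]
  exact h3 _ (List.getElem_mem hk)

/-- The suborbit. -/
noncomputable def P (k : Fin 136) : He ⧸ hSub := eC ⟨ptN k.val, ptN_lt k⟩

theorem P_injective : Function.Injective P := by
  intro a b h
  have h' := congrArg Fin.val (eC.injective h)
  obtain ⟨h1, h2, -, -⟩ := pointOK_spec
  have ha : a.val < pts.length := by omega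
  have hb : b.val < pts.length := by omega
  simp only [ptN, List.getD_eq_getElem _ 0 ha, List.getD_eq_getElem _ 0 hb] at h'
  exact Fin.ext (h2.getElem_inj_iff.1 h')

theorem word_mem {j : ℕ} (hj : j < 7) : wval gen (hWords.getD j []) ∈ hSub := by
  rw [hSub_eq_closure]
  refine Subgroup.subset_closure ⟨hWords.getD j [], ?_, rfl⟩
  have hl : j < hWords.length := hj
  rw [List.getD_eq_getElem _ _ hl]
  exact List.getElem_mem hl

/-- The generators of the stabiliser, as elements of it. -/
noncomputable def hg (j : ℕ) : hSub :=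
  if hj : j < 7 then ⟨wval gen (hWords.getD j []), word_mem hj⟩ else 1

theorem hg_val {j : ℕ} (hj : j < 7) : (hg j : He) = wval gen (hWords.getD j []) := by
  rw [hg, dif_pos hj]

theorem hImg_lt {j : ℕ} (hj : j < 7) (k : Fin 136) : hImg j k.val < 136 := by
  have h := wordOK_eq
  simp only [wordOK, Bool.and_eq_true] at h
  obtain ⟨⟨⟨⟨⟨⟨⟨⟨⟨⟨⟨-, hw⟩, -⟩, -⟩, -⟩, -⟩, -⟩, -⟩, -⟩, -⟩, -⟩, -⟩ := h
  have h2 := of_allBelow hw hj
  simp only [Bool.and_eq_true] at h2
  have h3 := of_allBelow h2.2 k.isLt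
  simp only [Bool.and_eq_true, decide_eq_true_eq] at h3
  exact h3.1

theorem hg_P {j : ℕ} (hj : j < 7) (k : Fin 136) :
    (hg j : He) • P k = P ⟨hImg j k.val, hImg_lt hj k⟩ := by
  obtain ⟨-, -, -, h4⟩ := pointOK_spec
  obtain ⟨hw, hp⟩ := h4 j hj
  rw [hg_val hj, P, CosetCert.smul_path HeC2058.cert_edgesOK HeC2058.cert_nodesOK eC eC_spec.2 _
    (fun g hg' => hw g hg') _, P]
  congr 1
  exact Fin.ext (hp k.val k.isLt)

theorem hg_closure : Subgroup.closure {h : hSub | ∃ j < 7, h = hg j} = ⊤ := by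
  apply Subgroup.map_injective (f := hSub.subtype) hSub.subtype_injective
  rw [MonoidHom.map_closure, ← MonoidHom.range_eq_map, Subgroup.range_subtype]
  refine le_antisymm ((Subgroup.closure_le _).2 ?_) ?_
  · rintro _ ⟨h, -, rfl⟩; exact h.2
  · conv_lhs => rw [hSub_eq_closure]
    refine (Subgroup.closure_le _).2 ?_
    rintro x ⟨w, hw, rfl⟩
    obtain ⟨j, hj, rfl⟩ := List.getElem_of_mem hw
    have hj7 : j < 7 := hj
    refine Subgroup.subset_closure ⟨hg j, ⟨j, hj7, rfl⟩, ?_⟩
    rw [Subgroup.coe_subtype, hg_val hj7]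
    exact congrArg (wval gen) (List.getD_eq_getElem _ _ hj)

instance finite_he : Finite He := Presented.HeOrder.card_le.1

theorem preserves (h : hSub) : ∀ k, ∃ l, (h : He) • P k = P l := by
  have hm : h ∈ Subgroup.closure {h : hSub | ∃ j < 7, h = hg j} := hg_closure ▸ Subgroup.mem_top h
  rw [← Subgroup.mem_toSubmonoid,
    Subgroup.closure_toSubmonoid_of_isOfFinOrder (fun y _ => isOfFinOrder_of_finite y)] at hm
  induction hm using Submonoid.closure_induction with
  | mem x hx =>
    obtain ⟨j, hj, rfl⟩ := hx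
    exact fun k => ⟨_, hg_P hj k⟩
  | one => exact fun k => ⟨k, one_smul _ _⟩
  | mul x y _ _ ihx ihy =>
    intro k
    obtain ⟨l, hl⟩ := ihy k
    obtain ⟨m, hm⟩ := ihx l
    exact ⟨m, by rw [Subgroup.coe_mul, mul_smul, hl, hm]⟩

/-- The permutation of the suborbit as a function. -/
noncomputable def phiFun (h : hSub) (k : Fin 136) : Fin 136 := (preserves h k).choose

theorem phiFun_spec (h : hSub) (k : Fin 136) : (h : He) • P k = P (phiFun h k) :=
  (preserves h k).choose_spec

/-- The action of the stabiliser on the suborbit. -/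
noncomputable def phi : hSub →* Equiv.Perm (Fin 136) :=
  MonoidHom.mk'
    (fun h => Equiv.ofBijective (phiFun h) (Finite.injective_iff_bijective.1 fun a b e => by
      have := phiFun_spec h a
      rw [e, ← phiFun_spec h b] at this
      exact P_injective (smul_left_cancel _ this)))
    fun a b => Equiv.ext fun k => P_injective (by
      change P (phiFun (a * b) k) = P (phiFun a (phiFun b k))
      rw [← phiFun_spec, ← phiFun_spec, ← phiFun_spec, Subgroup.coe_mul, mul_smul])

theorem phi_hg {j : ℕ} (hj : j < 7) (k : Fin 136) : (phi (hg j) k).val = hImg j k.val := by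
  have h : P (phi (hg j) k) = P ⟨hImg j k.val, hImg_lt hj k⟩ := by
    change P (phiFun (hg j) k) = _
    rw [← phiFun_spec, hg_P hj k]
  exact congrArg Fin.val (P_injective h)

theorem perm_wval {s : ℕ → Equiv.Perm (Fin 136)} {f : ℕ → ℕ → ℕ} {n : ℕ}
    (hs : ∀ i < n, ∀ k : Fin 136, (s i k).val = f i k.val) :
    ∀ (w : List ℕ), (∀ i ∈ w, i < n) → ∀ k : Fin 136,
      (wval s w k).val = w.foldl (fun k i => f i k) k.val
  | [], _, k => rfl
  | i :: w, hw, k => by
    rw [wval, Equiv.Perm.mul_apply, perm_wval hs w (fun j hj => hw j (List.mem_cons_of_mem _ hj)) (s i k),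
      hs i (hw i List.mem_cons_self) k]
    rfl

/-- The element of the stabiliser inducing transvection `i`. -/
noncomputable def tEl (i : ℕ) : hSub := wval hg (tWords.getD i [])

/-- The outer element. -/
noncomputable def aEl : hSub := hg outer

theorem wordOK_spec :
    (∀ i < 5, (∀ j ∈ tWords.getD i [], j < 7) ∧
      ∀ k < 136, tImg i k = hWalk (tWords.getD i []) k) ∧
    (∀ j < 7, (∀ i ∈ hCosWord.getD j [], i < 5) ∧
      ∀ k < 136, tWalk (hCosWord.getD j []) k =
        (bif inner.getD j false then hImg j k else hImg j (hImg outer k))) ∧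
    (∀ i < 5, (∀ l ∈ conjWord.getD i [], l < 5) ∧
      ∀ k < 136, tWalk (conjWord.getD i []) k = hImg outer (tImg i (hImg outer k))) ∧
    (∀ k < 136, hImg outer (hImg outer k) = k) ∧ outer < 7 ∧
    vecs.getD idxZero 0 = 0 ∧ vecs.getD idxOne 0 = 1 ∧ vecs.getD idxOmega 0 = 2 ∧
    (formN (hImg outer idxOmega) witness ^^^ formN (hImg outer idxZero) witness) ≠
      G2Four.mulN (G2Four.mulN 2 2)
        (formN (hImg outer idxOne) witness ^^^ formN (hImg outer idxZero) witness) := by
  have h := wordOK_eq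
  simp only [wordOK, Bool.and_eq_true, Bool.not_eq_true', beq_eq_false_iff_ne, beq_iff_eq,
    decide_eq_true_eq] at h
  obtain ⟨⟨⟨⟨⟨⟨⟨⟨⟨⟨⟨ht, hh⟩, hc⟩, ha⟩, ho⟩, v0⟩, v1⟩, v2⟩, -⟩, -⟩, -⟩, hne⟩ := h
  refine ⟨fun i hi => ?_, fun j hj => ?_, fun i hi => ?_,
    fun k hk => beq_iff_eq.1 (of_allBelow ha hk), ho, v0, v1, v2, hne⟩
  · have := of_allBelow ht hi
    simp only [Bool.and_eq_true, List.all_eq_true, decide_eq_true_eq] at this
    exact ⟨this.1, fun k hk => beq_iff_eq.1 (of_allBelow this.2 hk)⟩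
  · have := of_allBelow hh hj
    simp only [Bool.and_eq_true, List.all_eq_true, decide_eq_true_eq] at this
    refine ⟨this.1, fun k hk => ?_⟩
    have h2 := of_allBelow this.2 hk
    simp only [Bool.and_eq_true, beq_iff_eq] at h2
    exact h2.2
  · have := of_allBelow hc hi
    simp only [Bool.and_eq_true, List.all_eq_true, decide_eq_true_eq] at this
    exact ⟨this.1, fun k hk => beq_iff_eq.1 (of_allBelow this.2 hk)⟩

theorem phi_tEl {i : ℕ} (hi : i < 5) (k : Fin 136) : (phi (tEl i) k).val = tImg i k.val := by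
  obtain ⟨ht, -⟩ := wordOK_spec
  rw [(ht i hi).2 k.val k.isLt, tEl, wval_map phi]
  exact perm_wval (fun j hj => phi_hg hj) _ (ht i hi).1 k

theorem phi_tEl_mem {i : ℕ} (hi : i < 5) : phi (tEl i) ∈ permImage := by
  obtain ⟨π, hπ, hv⟩ := exists_tPerm hi
  rw [show phi (tEl i) = π from Equiv.ext fun k => Fin.ext ((phi_tEl hi k).trans (hv k).symm)]
  exact mem_permImage.2 ⟨_, hπ⟩

theorem mem_of_tWalk {π : Equiv.Perm (Fin 136)} {w : List ℕ} (hw : ∀ i ∈ w, i < 5)
    (h : ∀ k : Fin 136, (π k).val = tWalk w k.val) : π ∈ permImage := by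
  have he : π = wval (fun i => phi (tEl i)) w := Equiv.ext fun k => Fin.ext
    ((h k).trans (perm_wval (fun i hi => phi_tEl hi) w hw k).symm)
  rw [he]
  clear he h
  induction w with
  | nil => exact one_mem _
  | cons i w ih =>
    exact mul_mem (ih fun j hj => hw j (List.mem_cons_of_mem _ hj))
      (phi_tEl_mem (hw i List.mem_cons_self))

/-- The subgroup of index two. -/
noncomputable def Nsub : Subgroup hSub := permImage.comap phi

theorem phi_aEl (k : Fin 136) : (phi aEl k).val = hImg outer k.val :=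
  phi_hg wordOK_spec.2.2.2.2.1 k

theorem phi_aEl_sq : phi aEl * phi aEl = 1 := by
  refine Equiv.ext fun k => Fin.ext ?_
  rw [Equiv.Perm.mul_apply, phi_aEl, phi_aEl]
  exact wordOK_spec.2.2.2.1 k.val k.isLt

theorem conj_mem {π : Equiv.Perm (Fin 136)} (hπ : π ∈ permImage) :
    phi aEl * π * phi aEl ∈ permImage := by
  have hinv : (phi aEl)⁻¹ = phi aEl := inv_eq_of_mul_eq_one_right phi_aEl_sq
  have hle : permImage ≤ permImage.comap (MulAut.conj (phi aEl)).toMonoidHom := by
    refine permImage_le fun i hi σ hσ => ?_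
    change phi aEl * σ * (phi aEl)⁻¹ ∈ permImage
    obtain ⟨-, -, hc, -⟩ := wordOK_spec
    refine mem_of_tWalk (hc i hi).1 fun k => ?_
    rw [(hc i hi).2 k.val k.isLt, hinv, Equiv.Perm.mul_apply, Equiv.Perm.mul_apply, phi_aEl, hσ, phi_aEl]
  have := hle hπ
  change phi aEl * π * (phi aEl)⁻¹ ∈ permImage at this
  rwa [hinv] at this

theorem gen_cases {j : ℕ} (hj : j < 7) : hg j ∈ Nsub ∨ hg j * aEl ∈ Nsub := by
  obtain ⟨-, hh, -⟩ := wordOK_spec
  obtain ⟨hw, hwalk⟩ := hh j hj
  cases hb : inner.getD j false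
  · refine Or.inr (mem_of_tWalk hw fun k => ?_)
    rw [hwalk k.val k.isLt, hb, cond_false, map_mul, Equiv.Perm.mul_apply, phi_hg hj, phi_aEl]
  · refine Or.inl (mem_of_tWalk hw fun k => ?_)
    rw [hwalk k.val k.isLt, hb, cond_true, phi_hg hj]

theorem aEl_not_mem : aEl ∉ Nsub := by
  intro h
  obtain ⟨g, hg⟩ := mem_permImage.1 h
  obtain ⟨-, -, -, -, -, v0, v1, v2, hne⟩ := wordOK_spec
  refine hne ?_
  have key : ∀ x : Vec, (formN idxOmega (enc x) ^^^ formN idxZero (enc x)) =
      G2Four.mulN (G2Four.mulN 2 2) (formN idxOne (enc x) ^^^ formN idxZero (enc x)) := by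
    intro x
    have hb : allBelow 256 (fun n => (qN 2 n ^^^ qN 0 n) ==
        G2Four.mulN (G2Four.mulN 2 2) (qN 1 n ^^^ qN 0 n)) = true := by decide +kernel
    rw [formN_eq (by decide) (enc_lt x), formN_eq (by decide) (enc_lt x),
      formN_eq (by decide) (enc_lt x), v0, v1, v2]
    exact beq_iff_eq.1 (of_allBelow hb (enc_lt x))
  have e : ∀ (k : Fin 136) (x : Vec),
      formN (hImg outer k.val) (enc x) = formN k.val (enc (g⁻¹.1 *ᵥ x)) := by
    intro k x
    rw [← phi_aEl, ← hg k (g⁻¹.1 *ᵥ x), Matrix.mulVec_mulVec,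
      show g.1 * g⁻¹.1 = 1 from congrArg Subtype.val (mul_inv_cancel g), Matrix.one_mulVec]
  have hx := key (g⁻¹.1 *ᵥ decode witness)
  rw [← e ⟨idxOmega, by decide⟩, ← e ⟨idxZero, by decide⟩, ← e ⟨idxOne, by decide⟩,
    enc_decode (show witness < 256 by decide)] at hx
  exact hx

theorem index_Nsub : Nsub.index = 2 := by
  refine Subgroup.index_eq_two_iff.2 ⟨aEl, fun b => ?_⟩
  have hb : b ∈ Nsub ∨ b * aEl ∈ Nsub := by
    have hm : b ∈ Subgroup.closure {h : hSub | ∃ j < 7, h = hg j} := hg_closure ▸ Subgroup.mem_top b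
    rw [← Subgroup.mem_toSubmonoid,
      Subgroup.closure_toSubmonoid_of_isOfFinOrder (fun y _ => isOfFinOrder_of_finite y)] at hm
    induction hm using Submonoid.closure_induction with
    | mem x hx =>
      obtain ⟨j, hj, rfl⟩ := hx
      exact gen_cases hj
    | one => exact Or.inl (one_mem _)
    | mul x y _ _ ihx ihy =>
      have hcj : ∀ n ∈ Nsub, aEl * n * aEl ∈ Nsub := fun n hn => by
        change phi (aEl * n * aEl) ∈ permImage
        rw [map_mul, map_mul]; exact conj_mem hn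
      have haa : aEl * aEl ∈ Nsub := by
        change phi (aEl * aEl) ∈ permImage
        rw [map_mul, phi_aEl_sq]; exact one_mem _
      rcases ihx with hx | hx <;> rcases ihy with hy | hy
      · exact Or.inl (mul_mem hx hy)
      · exact Or.inr (by rw [mul_assoc]; exact mul_mem hx hy)
      · refine Or.inr ?_
        have h := mul_mem hx (mul_mem (inv_mem haa) (hcj y hy))
        rwa [show x * aEl * ((aEl * aEl)⁻¹ * (aEl * y * aEl)) = x * y * aEl by group] at h
      · refine Or.inl ?_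
        have h := mul_mem (mul_mem hx (mul_mem (inv_mem haa) (hcj _ hy))) (inv_mem haa)
        rwa [show x * aEl * ((aEl * aEl)⁻¹ * (aEl * (y * aEl) * aEl)) * (aEl * aEl)⁻¹ = x * y by group] at h
  rcases hb with h | h
  · exact Or.inr ⟨h, fun h' => aEl_not_mem ((Subgroup.mul_mem_cancel_left _ h).1 h')⟩
  · exact Or.inl ⟨h, fun h' => aEl_not_mem ((Subgroup.mul_mem_cancel_left _ h').1 h)⟩

theorem card_Nsub : Nat.card Nsub = 979200 := by
  have h := Subgroup.card_mul_index Nsub
  rw [index_Nsub, Presented.HeOrder.card_hSub] at h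
  omega

theorem card_Sp4 : Nat.card Sp4 = 979200 := by
  rw [Forms.card_symplecticGroup, G2Four.card_K4]
  rfl

theorem nonempty_Nsub_equiv : Nonempty (Nsub ≃* Sp4) := by
  let f : Nsub →* permImage := (phi.comp Nsub.subtype).codRestrict permImage fun x => x.2
  have hsurj : Function.Surjective f := by
    have hle : permImage ≤ Nsub.map phi := permImage_le fun i hi σ hσ => by
      refine ⟨tEl i, phi_tEl_mem hi, ?_⟩
      exact Equiv.ext fun k => Fin.ext ((phi_tEl hi k).trans (hσ k).symm)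
    rintro ⟨π, hπ⟩
    obtain ⟨x, hx, he⟩ := hle hπ
    exact ⟨⟨x, hx⟩, Subtype.ext he⟩
  have hbij : Function.Bijective f := (Nat.bijective_iff_surjective_and_card f).2 ⟨hsurj, by
    rw [card_Nsub, ← card_Sp4, Nat.card_congr spEquivImage.toEquiv]⟩
  exact ⟨(MulEquiv.ofBijective f hbij).trans spEquivImage.symm⟩

/-- He as a group of permutations of 2058 points. -/
noncomputable def toPerm : He →* Equiv.Perm (Fin 2058) :=
  (eC.symm.permCongrHom).toMonoidHom.comp (MulAction.toPermHom He (He ⧸ hSub))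

theorem toPerm_apply (x : He) (i : Fin 2058) : toPerm x i = eC.symm (x • eC i) := rfl

theorem fix_iff (x : He) :
    toPerm x (⟨0, by norm_num⟩ : Fin 2058) = (⟨0, by norm_num⟩ : Fin 2058) ↔ x ∈ hSub := by
  have h0 : (0 : ℕ) < HeC2058.cert.N := by rw [cert_N]; norm_num
  change eC.symm (x • eC ⟨0, h0⟩) = (⟨0, h0⟩ : Fin HeC2058.cert.N) ↔ _
  rw [Equiv.symm_apply_eq, eC_spec.1 _ rfl, MulAction.Quotient.smul_mk, smul_eq_mul, mul_one,
    QuotientGroup.eq, mul_one, inv_mem_iff]

theorem toPerm_injective : Function.Injective toPerm := by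
  rw [← MonoidHom.ker_eq_bot_iff]
  refine (Presented.HeOrder.simple_he.eq_bot_or_eq_top_of_normal _ inferInstance).resolve_right ?_
  intro htop
  have hall : ∀ x : He, x ∈ hSub := fun x => by
    have hk : toPerm x = 1 := MonoidHom.mem_ker.1 (htop ▸ Subgroup.mem_top x)
    refine (fix_iff x).1 ?_
    have h := DFunLike.congr_fun hk (⟨0, by norm_num⟩ : Fin 2058)
    exact h
  have h2 := hSub_index
  rw [show hSub = ⊤ from (Subgroup.eq_top_iff' _).2 hall, Subgroup.index_top] at h2
  norm_num at h2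

theorem toPerm_fix_zero (x : He) : toPerm x 0 = 0 ↔ x ∈ hSub := fix_iff x

/-- The equivalence of He with the permutation group. -/
noncomputable def toRange : He ≃* toPerm.range := MonoidHom.ofInjective toPerm_injective

theorem realization : ∃ H : Subgroup (Equiv.Perm (Fin 2058)), Cfsg.IsHe H ∧
    MulAction.IsPretransitive H (Fin 2058) ∧ ∃ (F : Type) (_ : Field F) (_ : Fintype F),
      Fintype.card F = 4 ∧ ∃ N : Subgroup (MulAction.stabilizer H (0 : Fin 2058)), N.index = 2 ∧
        Nonempty (N ≃* Matrix.symplecticGroup (Fin 2) F) := by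
  refine ⟨toPerm.range, ⟨?_, ?_⟩, ?_, G2Four.K4, inferInstance, inferInstance, G2Four.card_K4, ?_⟩
  · haveI := Presented.HeOrder.simple_he
    haveI : Nontrivial toPerm.range := toRange.toEquiv.symm.nontrivial
    exact IsSimpleGroup.isSimpleGroup_of_surjective toRange.toMonoidHom toRange.surjective
  · rw [← Nat.card_congr toRange.toEquiv, Presented.HeOrder.card_he]
  · refine ⟨fun i j => ?_⟩
    obtain ⟨x, hx⟩ := MulAction.exists_smul_eq He (eC i) (eC j)
    exact ⟨⟨toPerm x, x, rfl⟩, by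
      change toPerm x i = j
      rw [toPerm_apply, hx]
      exact eC.symm_apply_apply j⟩
  have hS : MulAction.stabilizer toPerm.range (0 : Fin 2058) = hSub.map toRange.toMonoidHom := by
    ext y
    obtain ⟨x, rfl⟩ := toRange.surjective y
    rw [MulAction.mem_stabilizer_iff]
    refine (toPerm_fix_zero x).trans ⟨fun h => ⟨x, h, rfl⟩, ?_⟩
    rintro ⟨z, hz, he⟩
    rwa [← toRange.injective he]
  let e : hSub ≃* MulAction.stabilizer toPerm.range (0 : Fin 2058) :=
    (toRange.subgroupMap hSub).trans (MulEquiv.subgroupCongr hS.symm)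
  refine ⟨Nsub.map e.toMonoidHom, ?_, ?_⟩
  · rw [show e.toMonoidHom = (e : hSub →* _) from rfl, Subgroup.index_map_equiv, index_Nsub]
  · obtain ⟨f⟩ := nonempty_Nsub_equiv
    exact ⟨((e.subgroupMap Nsub).symm).trans f⟩

end Cfsg.Agent.HeldStab
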