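import Cfsg.Agent.Lib.HeldStab.Check
import Cfsg.Agent.Lib.ClassicalSimple.SympMatrix

/-!
# Sp₄(4) as a group of permutations of 136 quadratic forms

`Rel g π`: the permutation `π` of the tabulated forms is induced by `g`. The pairs form a subgroup
`Rg` whose two projections are injective and whose first projection is onto, the group being generated
by five transvections.
-/

set_option autoImplicit false

namespace Cfsg.Agent.HeldStab

open Cfsg.Agent.G2Four Cfsg.Agent.ClassicalSimple
open scoped Matrix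

attribute [local irreducible] formN tvTabN tImg

/-- The natural module. -/
abbrev Vec := Fin 2 ⊕ Fin 2 → K4

/-- The symplectic group of degree four over the field with four elements. -/
abbrev Sp4 := Matrix.symplecticGroup (Fin 2) K4

/-- The code of a field element. -/
abbrev code (a : K4) : ℕ := (a.v : ℕ)

theorem code_lt (a : K4) : code a < 4 := a.v.isLt

theorem code_inj {a b : K4} (h : code a = code b) : a = b := by
  cases a; cases b; exact congrArg K4.mk (Fin.ext h)

theorem code_add : ∀ a b : K4, code (a + b) = code a ^^^ code b := by decide +kernel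

theorem code_mul : ∀ a b : K4, code (a * b) = mulN (code a) (code b) := by decide +kernel

theorem neg_eq_self (a : K4) : -a = a := rfl

theorem pow_four : ∀ a : K4, a * a * (a * a) = a := by decide +kernel

/-- The code of a vector. -/
def enc (x : Vec) : ℕ :=
  code (x (Sum.inl 0)) + 4 * code (x (Sum.inl 1)) + 16 * code (x (Sum.inr 0)) +
    64 * code (x (Sum.inr 1))

/-- The vector with a given code. -/
def decode (n : ℕ) : Vec :=
  Sum.elim (fun i => k ⟨coord n i.val, Nat.mod_lt _ (by norm_num)⟩)
    (fun i => k ⟨coord n (2 + i.val), Nat.mod_lt _ (by norm_num)⟩)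

theorem enc_lt (x : Vec) : enc x < 256 := by
  have := code_lt (x (Sum.inl 0)); have := code_lt (x (Sum.inl 1))
  have := code_lt (x (Sum.inr 0)); have := code_lt (x (Sum.inr 1))
  unfold enc; omega

theorem coord_enc (x : Vec) :
    coord (enc x) 0 = code (x (Sum.inl 0)) ∧ coord (enc x) 1 = code (x (Sum.inl 1)) ∧
      coord (enc x) 2 = code (x (Sum.inr 0)) ∧ coord (enc x) 3 = code (x (Sum.inr 1)) := by
  have := code_lt (x (Sum.inl 0)); have := code_lt (x (Sum.inl 1))
  have := code_lt (x (Sum.inr 0)); have := code_lt (x (Sum.inr 1))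
  unfold coord enc
  norm_num
  omega

theorem enc_decode {n : ℕ} (hn : n < 256) : enc (decode n) = n := by
  unfold enc decode coord code k
  simp
  omega

theorem enc_inj {x y : Vec} (h : enc x = enc y) : x = y := by
  obtain ⟨a0, a1, a2, a3⟩ := coord_enc x
  obtain ⟨b0, b1, b2, b3⟩ := coord_enc y
  funext i
  refine code_inj ?_
  rcases i with i | i <;> fin_cases i
  · exact (a0.symm.trans (h ▸ b0))
  · exact (a1.symm.trans (h ▸ b1))
  · exact (a2.symm.trans (h ▸ b2))
  · exact (a3.symm.trans (h ▸ b3))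

theorem sympForm_eq (x p : Vec) :
    sympBilin 2 K4 x p = x (Sum.inl 0) * p (Sum.inr 0) + x (Sum.inl 1) * p (Sum.inr 1) +
      (x (Sum.inr 0) * p (Sum.inl 0) + x (Sum.inr 1) * p (Sum.inl 1)) := by
  rw [sympBilin_apply, sympForm, Matrix.J, Matrix.fromBlocks_mulVec]
  simp [dotProduct, Fintype.sum_sum_type, Matrix.neg_mulVec, Fin.sum_univ_two, neg_eq_self]

theorem enc_transvection (p x : Vec) :
    enc (x + (1 * sympBilin 2 K4 x p) • p) = tvN (enc p) (enc x) := by
  obtain ⟨a0, a1, a2, a3⟩ := coord_enc x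
  obtain ⟨b0, b1, b2, b3⟩ := coord_enc p
  simp only [tvN, bN, a0, a1, a2, a3, b0, b1, b2, b3]
  simp only [enc, Pi.add_apply, Pi.smul_apply, smul_eq_mul, one_mul, sympForm_eq, code_add, code_mul,
    Nat.xor_assoc]

/-- The five generating transvections. -/
def tvt (i : ℕ) : Sp4 := sympTransvectionElt (decode (tvecs.getD i 0)) 1

theorem tvt_enc {i : ℕ} (hi : i < 5) (x : Vec) : enc ((tvt i).1 *ᵥ x) = tvTabN i (enc x) := by
  have h := formOK_eq
  simp only [formOK, Bool.and_eq_true] at h
  have h1 := of_allBelow h.1.1.1.2 hi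
  simp only [Bool.and_eq_true, decide_eq_true_eq] at h1
  have h2 := of_allBelow h1.2 (enc_lt x)
  rw [beq_iff_eq] at h2
  rw [h2, show (tvt i).1 = sympTransvection 2 (decode (tvecs.getD i 0)) (1 : K4) from rfl,
    sympTransvection_mulVec, enc_transvection, enc_decode h1.1]

theorem formN_eq {k : ℕ} (hk : k < 136) {x : ℕ} (hx : x < 256) :
    formN k x = qN (vecs.getD k 0) x := by
  have h := formOK_eq
  simp only [formOK, Bool.and_eq_true] at h
  have h1 := of_allBelow h.1.1.1.1 hk
  simp only [Bool.and_eq_true] at h1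
  exact beq_iff_eq.1 (of_allBelow h1.2 hx)

theorem formN_inj {a b : ℕ} (ha : a < 136) (hb : b < 136) (h : ∀ x < 256, formN a x = formN b x) :
    a = b := by
  have hf := formOK_eq
  simp only [formOK, Bool.and_eq_true, beq_iff_eq, decide_eq_true_eq, List.all_eq_true] at hf
  obtain ⟨⟨⟨-, hlen⟩, hnd⟩, hsz⟩ := hf
  have hA : a < formTab.length := by omega
  have hB : b < formTab.length := by omega
  have key : formTab[a] = formTab[b] := by
    refine Nat.eq_of_testBit_eq fun n => ?_
    by_cases hn : n < 512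
    · have e := congrArg (fun t => Nat.testBit t (n % 2)) (h (n / 2) (by omega))
      simp only [formN, show (4 : ℕ) = 2 ^ 2 from rfl, Nat.testBit_mod_two_pow, Nat.testBit_shiftRight,
        List.getD_eq_getElem _ 0 hA, List.getD_eq_getElem _ 0 hB, Nat.div_add_mod,
        show n % 2 < 2 by omega, decide_true, Bool.true_and] at e
      exact e
    · have hb' : ∀ t ∈ formTab, t < 2 ^ n := fun t ht =>
        lt_of_lt_of_le (hsz t ht) (Nat.pow_le_pow_right (by norm_num) (by omega))
      rw [Nat.testBit_lt_two_pow (hb' _ (List.getElem_mem hA)),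
        Nat.testBit_lt_two_pow (hb' _ (List.getElem_mem hB))]
  exact hnd.getElem_inj_iff.1 key

/-- The vector recovered from five form values. -/
def recon (f : ℕ → ℕ) : ℕ :=
  mulN (f 1 ^^^ f 0) (f 1 ^^^ f 0) + 4 * mulN (f 4 ^^^ f 0) (f 4 ^^^ f 0) +
    16 * mulN (f 16 ^^^ f 0) (f 16 ^^^ f 0) + 64 * mulN (f 40 ^^^ f 0) (f 40 ^^^ f 0)

theorem recon_ok : allBelow 256 (fun x => recon (fun k => formN k x) == x) = true := by
  decide +kernel

theorem eq_of_forms {x y : Vec} (h : ∀ k < 136, formN k (enc x) = formN k (enc y)) : x = y := by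
  refine enc_inj ?_
  rw [← beq_iff_eq.1 (of_allBelow recon_ok (enc_lt x)), ← beq_iff_eq.1 (of_allBelow recon_ok (enc_lt y))]
  simp only [recon, h 0 (by norm_num), h 1 (by norm_num), h 4 (by norm_num), h 16 (by norm_num),
    h 40 (by norm_num)]

/-- The permutation `π` of the forms is induced by `g`. -/
def Rel (g : Sp4) (π : Equiv.Perm (Fin 136)) : Prop :=
  ∀ (k : Fin 136) (x : Vec), formN (π k).val (enc (g.1 *ᵥ x)) = formN k.val (enc x)

/-- The graph of the action. -/
def Rg : Subgroup (Sp4 × Equiv.Perm (Fin 136)) where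
  carrier := {p | Rel p.1 p.2}
  one_mem' := fun k x => by
    change formN k.val (enc ((1 : Matrix (Fin 2 ⊕ Fin 2) (Fin 2 ⊕ Fin 2) K4) *ᵥ x)) = _
    rw [Matrix.one_mulVec]
  mul_mem' := by
    rintro ⟨g, π⟩ ⟨g', π'⟩ h h' k x
    change formN (π (π' k)).val (enc ((g.1 * g'.1) *ᵥ x)) = _
    rw [← Matrix.mulVec_mulVec]
    exact (h (π' k) _).trans (h' k x)
  inv_mem' := by
    rintro ⟨g, π⟩ h k x
    have h1 := h (π⁻¹ k) (g⁻¹.1 *ᵥ x)
    rw [Matrix.mulVec_mulVec, show g.1 * g⁻¹.1 = 1 from congrArg Subtype.val (mul_inv_cancel g),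
      Matrix.one_mulVec] at h1
    simpa using h1.symm

theorem mem_Rg {g : Sp4} {π : Equiv.Perm (Fin 136)} : (g, π) ∈ Rg ↔ Rel g π := Iff.rfl

theorem Rel.perm_unique {g : Sp4} {π π' : Equiv.Perm (Fin 136)} (h : Rel g π) (h' : Rel g π') :
    π = π' := by
  refine Equiv.ext fun k => Fin.ext (formN_inj (π k).isLt (π' k).isLt fun n hn => ?_)
  have h1 := h k (g⁻¹.1 *ᵥ decode n)
  have h2 := h' k (g⁻¹.1 *ᵥ decode n)
  rw [Matrix.mulVec_mulVec, show g.1 * g⁻¹.1 = 1 from congrArg Subtype.val (mul_inv_cancel g),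
    Matrix.one_mulVec, enc_decode hn] at h1 h2
  rw [h1, h2]

theorem Rel.sp_unique {g g' : Sp4} {π : Equiv.Perm (Fin 136)} (h : Rel g π) (h' : Rel g' π) :
    g = g' := by
  refine Subtype.ext (Matrix.toLin'.injective (LinearMap.ext fun x => eq_of_forms fun k hk => ?_))
  have h1 := h (π⁻¹ ⟨k, hk⟩) x
  have h2 := h' (π⁻¹ ⟨k, hk⟩) x
  rw [← Equiv.Perm.mul_apply, mul_inv_cancel, Equiv.Perm.one_apply] at h1 h2
  rw [Matrix.toLin'_apply, Matrix.toLin'_apply]
  exact h1.trans h2.symm

/-- The permutations induced by Sp₄(4). -/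
def permImage : Subgroup (Equiv.Perm (Fin 136)) := Rg.map (MonoidHom.snd _ _)

theorem mem_permImage {π : Equiv.Perm (Fin 136)} : π ∈ permImage ↔ ∃ g, Rel g π :=
  ⟨fun ⟨⟨g, _⟩, hp, e⟩ => ⟨g, by subst e; exact hp⟩, fun ⟨g, h⟩ => ⟨(g, π), h, rfl⟩⟩

/-- The five generating pairs' permutations exist. -/
theorem exists_tPerm {i : ℕ} (hi : i < 5) :
    ∃ π : Equiv.Perm (Fin 136), Rel (tvt i) π ∧ ∀ k, (π k).val = tImg i k.val := by
  have hm := of_allBelow moveOK_eq hi
  have hb : ∀ k : Fin 136, tImg i k.val < 136 ∧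
      ∀ x : Vec, formN (tImg i k.val) (enc ((tvt i).1 *ᵥ x)) = formN k.val (enc x) := by
    intro k
    have h := of_allBelow hm k.isLt
    simp only [Bool.and_eq_true, decide_eq_true_eq] at h
    refine ⟨h.1, fun x => ?_⟩
    rw [tvt_enc hi]
    exact beq_iff_eq.1 (of_allBelow h.2 (enc_lt x))
  let f : Fin 136 → Fin 136 := fun k => ⟨tImg i k.val, (hb k).1⟩
  have hf : Function.Injective f := fun a b e => by
    refine Fin.ext (formN_inj a.isLt b.isLt fun n hn => ?_)
    have ea := (hb a).2 (decode n)
    have eb := (hb b).2 (decode n)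
    rw [enc_decode hn] at ea eb
    rw [← ea, ← eb, show tImg i a.val = tImg i b.val from congrArg Fin.val e]
  exact ⟨Equiv.ofBijective f (Finite.injective_iff_bijective.1 hf), fun k x => (hb k).2 x, fun k => rfl⟩

theorem tvt_closure : Subgroup.closure {g | ∃ i < 5, g = tvt i} = ⊤ := by
  set G := Subgroup.closure {g | ∃ i < 5, g = tvt i} with hG
  have hgen : ∀ i < 5, tvt i ∈ G := fun i hi => Subgroup.subset_closure ⟨i, hi, rfl⟩
  have ho := orbitOK_eq
  simp only [orbitOK, Bool.and_eq_true] at ho
  have hvec : ∀ n < 255, sympTransvectionElt (decode (vecOrbit.getD n (0, 0, 0)).1) (1 : K4) ∈ G := by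
    intro n
    induction n using Nat.strong_induction_on with
    | _ n ih =>
      intro hn
      have h := of_allBelow ho.1 hn
      simp only [Bool.and_eq_true, decide_eq_true_eq] at h
      obtain ⟨hlt, h⟩ := h
      by_cases h0 : n = 0
      · subst h0
        simp only [beq_self_eq_true, cond_true, beq_iff_eq] at h
        rw [h]; exact hgen 0 (by norm_num)
      rw [beq_eq_false_iff_ne.2 h0] at h
      simp only [cond_false, Bool.and_eq_true, decide_eq_true_eq, beq_iff_eq] at h
      obtain ⟨⟨hp, hi⟩, he⟩ := h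
      set i := (vecOrbit.getD n (0, 0, 0)).2.2
      set q := (vecOrbit.getD (vecOrbit.getD n (0, 0, 0)).2.1 (0, 0, 0)).1
      have hq : q < 256 := by
        have := of_allBelow ho.1 (show (vecOrbit.getD n (0, 0, 0)).2.1 < 255 by omega)
        simp only [Bool.and_eq_true, decide_eq_true_eq] at this
        exact this.1
      have hd : decode (vecOrbit.getD n (0, 0, 0)).1 = (tvt i).1 *ᵥ decode q := by
        refine enc_inj ?_
        rw [enc_decode hlt, tvt_enc hi, enc_decode hq, he]
      have hconj : sympTransvectionElt ((tvt i).1 *ᵥ decode q) (1 : K4) =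
          tvt i * sympTransvectionElt (decode q) 1 * (tvt i)⁻¹ := symplecticEquiv.injective (by
        rw [map_mul, map_mul, map_inv, symplecticEquiv_transvection, symplecticEquiv_transvection,
          spTransv_conj, symplecticEquiv_smul])
      rw [hd, hconj]
      exact mul_mem (mul_mem (hgen i hi) (ih _ hp (by omega))) (inv_mem (hgen i hi))
  have h1 : ∀ p : Vec, sympTransvectionElt p (1 : K4) ∈ G := by
    intro p
    by_cases hp : p = 0
    · have : sympTransvectionElt p (1 : K4) = 1 := symplecticEquiv.injective (by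
        rw [symplecticEquiv_transvection, map_one]
        exact SpB.ext' fun x => by simp [hp])
      rw [this]; exact one_mem _
    have h := of_allBelow ho.2 (enc_lt p)
    simp only [Bool.or_eq_true, beq_iff_eq, List.any_eq_true] at h
    rcases h with h | ⟨e, he, hee⟩
    · exfalso
      exact hp (enc_inj (h.trans (by simp [enc, code]; rfl)))
    · obtain ⟨n, hn, rfl⟩ := List.getElem_of_mem he
      have hlen : vecOrbit.length = 255 := by decide +kernel
      have := hvec n (hlen ▸ hn)
      rw [List.getD_eq_getElem _ _ hn, hee] at this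
      rwa [show decode (enc p) = p from enc_inj (enc_decode (enc_lt p))] at this
  rw [eq_top_iff, ← closure_sympTransvectionSet, Subgroup.closure_le]
  rintro A ⟨w, c, hA⟩
  have hAe : A = sympTransvectionElt ((c * c) • w) (1 : K4) := by
    refine symplecticEquiv.injective ?_
    rw [show A = sympTransvectionElt w c from Subtype.ext hA, symplecticEquiv_transvection,
      symplecticEquiv_transvection, spTransv_scale]
    congr 1
    rw [mul_one]; exact (pow_four c).symm
  rw [hAe]; exact h1 _

theorem Rg_fst_top : Rg.map (MonoidHom.fst _ _) = ⊤ := by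
  rw [eq_top_iff, ← tvt_closure, Subgroup.closure_le]
  rintro g ⟨i, hi, rfl⟩
  obtain ⟨π, hπ, -⟩ := exists_tPerm hi
  exact ⟨(tvt i, π), hπ, rfl⟩

theorem exists_rel (g : Sp4) : ∃ π, Rel g π := by
  have : g ∈ Rg.map (MonoidHom.fst _ _) := Rg_fst_top ▸ Subgroup.mem_top g
  obtain ⟨⟨g', π⟩, hp, e⟩ := this
  subst e
  exact ⟨π, hp⟩

theorem Rel.one : Rel 1 1 := Rg.one_mem

theorem Rel.mul {g g' : Sp4} {π π' : Equiv.Perm (Fin 136)} (h : Rel g π) (h' : Rel g' π') :
    Rel (g * g') (π * π') :=
  Rg.mul_mem (show ((g, π) : Sp4 × Equiv.Perm (Fin 136)) ∈ Rg from h)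
    (show ((g', π') : Sp4 × Equiv.Perm (Fin 136)) ∈ Rg from h')

/-- The permutation of the forms induced by `g`. -/
noncomputable def permOf (g : Sp4) : Equiv.Perm (Fin 136) := (exists_rel g).choose

theorem rel_permOf (g : Sp4) : Rel g (permOf g) := (exists_rel g).choose_spec

/-- The action, as a homomorphism. -/
noncomputable def toPermImage : Sp4 →* permImage :=
  MonoidHom.mk' (fun g => ⟨permOf g, mem_permImage.2 ⟨g, rel_permOf g⟩⟩) fun a b =>
    Subtype.ext ((rel_permOf (a * b)).perm_unique ((rel_permOf a).mul (rel_permOf b)))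

theorem toPermImage_bijective : Function.Bijective toPermImage := by
  constructor
  · intro a b h
    have ha := rel_permOf a
    rw [show permOf a = permOf b from congrArg Subtype.val h] at ha
    exact ha.sp_unique (rel_permOf b)
  · rintro ⟨π, hπ⟩
    obtain ⟨g, hg⟩ := mem_permImage.1 hπ
    exact ⟨g, Subtype.ext ((rel_permOf g).perm_unique hg)⟩

/-- The group Sp₄(4) is its image. -/
noncomputable def spEquivImage : Sp4 ≃* permImage := MulEquiv.ofBijective toPermImage toPermImage_bijective

theorem permImage_le {S : Subgroup (Equiv.Perm (Fin 136))}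
    (h : ∀ i < 5, ∀ π : Equiv.Perm (Fin 136), (∀ k, (π k).val = tImg i k.val) → π ∈ S) :
    permImage ≤ S := by
  intro π hπ
  obtain ⟨g, hg⟩ := mem_permImage.1 hπ
  have hmem : g ∈ S.comap (permImage.subtype.comp toPermImage) := by
    have : (⊤ : Subgroup Sp4) ≤ S.comap (permImage.subtype.comp toPermImage) := by
      rw [← tvt_closure, Subgroup.closure_le]
      rintro x ⟨i, hi, rfl⟩
      obtain ⟨π', h', hv⟩ := exists_tPerm hi
      change permOf (tvt i) ∈ S
      rw [(rel_permOf (tvt i)).perm_unique h']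
      exact h i hi π' hv
    exact this trivial
  rw [hg.perm_unique (rel_permOf g)]
  exact hmem

end Cfsg.Agent.HeldStab
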